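import Mathlib
import Cfsg.Prelude.Def_GeometricClasses
import Cfsg.Agent.Lib.helper15.S5972.Defs
import Cfsg.Agent.Lib.Helper16.OCnt2
import Cfsg.Agent.Lib.Helper16.SpinG

set_option autoImplicit false

/-!
# Project OPE (designer helper18): definitions for S5974 + S5988.
`PΩ⁺_{2d}(q)`, ALL `q` (characteristic 2 included), `d ≥ 4`, on the hyperbolic (S5974) / elliptic (S5988) nondegenerate `m`-spaces, `m` even, `2 ≤ m < d`.

Everything is written for a quadratic form `Q : QuadraticForm F V` with polar form `B = QuadraticMap.polarBilin Q`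
(symmetric; alternating in characteristic 2).  Vocabulary reused: helper13's S5955 (`STI`, `SND`, `SOrth`, `SInv`, `fixS`, `cycS`, `SCtx`),
helper15's S5972 (`OCtx`: `B` symmetric nondegenerate, `x` an isometry, `x ^ r = 1`; no hypothesis on the characteristic),
helper16's counting type `Cfsg.Agent.Lib.Helper16.OSemi.IsType f m s` (`q · #{f = 0} = q^(2m) + s (q^(m+1) - q^m)`), `Cfsg.Agent.Lib.Helper16.qfPlus`.
The whole space has type `τ = ±1` in Part A, so the twin project OME (S5990, `Ω⁻`, helper8) can reuse Parts Q, A, R, E, U.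
-/

namespace Cfsg.Agent.Lib.Helper18.OPE

open Polynomial Module Cfsg.Agent.Lib.Helper13.S5955 Cfsg.Agent.Lib.helper15.S5972

variable {F : Type*} [Field F] {V : Type*} [AddCommGroup V] [Module F V]

/-- the abstract quadratic context: the polar form of `Q` is nondegenerate, `x` is an isometry of `Q` with `x ^ r = 1` -/
structure QCtx (r : ℕ) (Q : QuadraticForm F V) (x : Module.End F V) : Prop where
  nd : ∀ u, (∀ v, QuadraticMap.polarBilin Q u v = 0) → u = 0
  pres : ∀ v, Q (x v) = Q v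
  pow : x ^ r = 1

/-- `W` contains a totally singular subspace of half its dimension (hyperbolic, if `W` is nondegenerate) -/
def QHyp (Q : QuadraticForm F V) (W : Submodule F V) : Prop :=
  ∃ U : Submodule F V, U ≤ W ∧ (∀ u ∈ U, Q u = 0) ∧ 2 * finrank F U = finrank F W

/-- the counting type of `Q` on `W` (`s = 1`: hyperbolic, `s = -1`: elliptic), for `W` of even dimension:
`q · #{w ∈ W : Q w = 0} = q^(dim W) + s (q^(dim W / 2 + 1) - q^(dim W / 2))` -/
def QTy [Fintype F] (Q : QuadraticForm F V) (W : Submodule F V) (s : ℤ) : Prop :=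
  Cfsg.Agent.Lib.Helper16.OSemi.IsType (fun w : ↥W => Q (w : V)) (finrank F W / 2) s

/-- `m` is the dimension of some `x`-invariant nondegenerate subspace of type `s` -/
def QNDt [Fintype F] (Q : QuadraticForm F V) (x : Module.End F V) (m : ℕ) (s : ℤ) : Prop :=
  ∃ W : Submodule F V, SInv x W ∧ SND (QuadraticMap.polarBilin Q) W ∧ finrank F W = m ∧ QTy Q W s

/-- the forced type of an invariant nondegenerate subspace of `cycS` of dimension `c b`: `+` for `i` odd, `(-1)^b` for `i` even -/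
def sg (i b : ℕ) : ℤ := if Even i then (-1) ^ b else 1

/-- the fitting condition: `V` of dimension `2d` and type `τ`, `dim cycS = c A`, so `dim fixS = 2d - c A` and (if `fixS ≠ 0`) `type fixS = τ · sg i A`;
`W = W_fix ⟂ W_cyc`, `dim W_cyc = c b` (type `sg i b` forced), `dim W_fix = m - c b`: either `W_fix = 0`, or `W_fix` is a proper nonzero subspace of
`fixS` (both types occur), or `W_fix = fixS`. -/
def Fits (c i : ℕ) (τ : ℤ) (d m : ℕ) (s : ℤ) (A : ℕ) : Prop :=
  ∃ b : ℕ, b ≤ A ∧ c * b ≤ m ∧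
    ((m = c * b ∧ s = sg i b) ∨ (c * b < m ∧ m - c * b < 2 * d - c * A) ∨
      (c * b < m ∧ m - c * b = 2 * d - c * A ∧ s * sg i b = τ * sg i A))

/-- the largest `A` for which `Ω⁺_{2d}(q)` contains an element of order `r` with `dim cycS = c A`
(`c A ≤ 2d`, and `c A = 2d` only if `sg i A = 1`) -/
def Amax (i c d : ℕ) : ℕ :=
  if Even i ∧ (2 * d) % c = 0 ∧ Odd (2 * d / c) then 2 * d / c - 1 else 2 * d / c

/-- the polar form of the standard hyperbolic quadratic form `Σ xᵢ yᵢ` as a Mathlib bilinear form -/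
noncomputable def stdP (d : ℕ) (F : Type*) [Field F] : LinearMap.BilinForm F (Fin d ⊕ Fin d → F) :=
  QuadraticMap.polarBilin (Cfsg.Agent.Lib.Helper16.qfPlus d F)

theorem stdP_apply (d : ℕ) (u v : Fin d ⊕ Fin d → F) :
    stdP d F u v = QuadraticMap.polar (Cfsg.quadFormPlus d F) u v := rfl

/-- the hyperbolic `m`-spaces of the standard space, EXACTLY as in the frozen statement S5974 -/
abbrev HYP (d m : ℕ) (F : Type*) [Field F] : Type _ :=
  {W : Submodule F (Fin d ⊕ Fin d → F) //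
    (Module.finrank F ↥W = m ∧
      (∀ u ∈ W, u ≠ 0 → ∃ v ∈ W, QuadraticMap.polar (Cfsg.quadFormPlus d F) u v ≠ 0) ∧
      ∃ U : Submodule F (Fin d ⊕ Fin d → F), U ≤ W ∧ 2 * Module.finrank F ↥U = m ∧
        ∀ u ∈ U, Cfsg.quadFormPlus d F u = 0)}

/-- the elliptic `m`-spaces of the standard space, EXACTLY as in the frozen statement S5988 -/
abbrev ELL (d m : ℕ) (F : Type*) [Field F] : Type _ :=
  {W : Submodule F (Fin d ⊕ Fin d → F) //
    Module.finrank F ↥W = m ∧
      Cfsg.Geo.IsNondegenerateOn (QuadraticMap.polar (Cfsg.quadFormPlus d F)) W ∧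
      ¬ Cfsg.Geo.IsPlusTypeOn (Cfsg.quadFormPlus d F) W}

/-- the `r`-odd part of the frozen right-hand side of S5974 -/
def R74 (i c d m : ℕ) : Prop :=
  (Odd i ∧ c ≤ m ∧ m % c ≤ (2 * d) % c) ∨
  (Even i ∧
    (((2 * d) % c = 0 ∧ (Odd ((2 * d) / i) ∨ (m % c = 0 ∧ Even (m / i)))) ∨
     (i ≤ m ∧ ((m % c < (2 * d) % c ∧ 0 < m % c) ∨
               ((2 * d) % c = m % c ∧ 0 < m % c ∧ Even ((2 * d + m - 2 * ((2 * d) % c)) / i)) ∨
               (0 < (2 * d) % c ∧ m % c = 0 ∧ Even (m / i))))))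

/-- the `r`-odd part of the frozen right-hand side of S5988 -/
def R88 (i c d m : ℕ) : Prop :=
  (Odd i ∧ c ≤ m ∧ 0 < m % c ∧ m % c < (2 * d) % c) ∨
  (Even i ∧
    (((2 * d) % c = 0 ∧ (Odd ((2 * d) / i) ∨ (m % c = 0 ∧ Odd (m / i)))) ∨
     (i ≤ m ∧ ((0 < m % c ∧ m % c < (2 * d) % c) ∨
               (0 < m % c ∧ m % c = (2 * d) % c ∧ Odd ((2 * d + m - 2 * ((2 * d) % c)) / i)) ∨
               (m % c = 0 ∧ 0 < (2 * d) % c ∧ Odd (m / i))))))

/-- the necessary condition for `r ∣ #(hyperbolic 2h-spaces of the hyperbolic 2d-space)`, in terms of `i = ord_r q` -/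
def CH (i d h : ℕ) : Prop :=
  ∃ j : ℕ, j < h ∧ (i ∣ d - j ∨ (Even i ∧ (d - j - 1) % i = i / 2))

/-- the necessary condition for `r ∣ #(elliptic 2h-spaces of the hyperbolic 2d-space)` -/
def CE (i d h : ℕ) : Prop :=
  CH i d (h - 1) ∨ i ∣ d - h + 1 ∨ i ∣ d - h

end Cfsg.Agent.Lib.Helper18.OPE
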