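import Mathlib
import Cfsg.Agent.Lib.Helper18.OPE.Defs

set_option autoImplicit false

/-!
# Project OPE (designer helper18): definitions for the standard space (file 3 of the skeleton).
-/

namespace Cfsg.Agent.Lib.Helper18.OPE

open Polynomial Module Cfsg.Agent.Lib.Helper13.S5955 Cfsg.Agent.Lib.helper15.S5972

/-- the matrix `x` fixes a nondegenerate `m`-space of counting type `s` of the standard hyperbolic `2d`-space -/
def Fix {F : Type*} [Field F] [Fintype F] (d m : ℕ) (s : ℤ)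
    (x : Matrix (Fin d ⊕ Fin d) (Fin d ⊕ Fin d) F) : Prop :=
  ∃ W : Submodule F (Fin d ⊕ Fin d → F), finrank F W = m ∧ SND (stdP d F) W ∧
    QTy (Cfsg.Agent.Lib.Helper16.qfPlus d F) W s ∧ W.map (Matrix.toLin' x) ≤ W

/-- every element of order `r` of `PΩ⁺_{2d}(q)` (an element of `Ω⁺` with scalar `r`-th power, not scalar) fixes such a space -/
def AllFix (F : Type*) [Field F] [Fintype F] (d m : ℕ) (s : ℤ) (r : ℕ) : Prop :=
  ∀ x : GL (Fin d ⊕ Fin d) F, x ∈ Cfsg.Geo.omegaGL (Cfsg.quadFormPlus d F) →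
    (∃ z : F, ((x ^ r : GL (Fin d ⊕ Fin d) F) : Matrix (Fin d ⊕ Fin d) (Fin d ⊕ Fin d) F) =
      z • (1 : Matrix (Fin d ⊕ Fin d) (Fin d ⊕ Fin d) F)) →
    (∀ z : F, (x : Matrix (Fin d ⊕ Fin d) (Fin d ⊕ Fin d) F) ≠
      z • (1 : Matrix (Fin d ⊕ Fin d) (Fin d ⊕ Fin d) F)) →
    Fix d m s (x : Matrix (Fin d ⊕ Fin d) (Fin d ⊕ Fin d) F)

/-- the `r`-odd right-hand side: `R74` for `s = 1`, `R88` for `s = -1` -/
def RR (i c d m : ℕ) (s : ℤ) : Prop := (s = 1 ∧ R74 i c d m) ∨ (s = -1 ∧ R88 i c d m)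

/-- the count condition: `CH` for `s = 1`, `CE` for `s = -1` -/
def CC (i d h : ℕ) (s : ℤ) : Prop := (s = 1 ∧ CH i d h) ∨ (s = -1 ∧ CE i d h)

end Cfsg.Agent.Lib.Helper18.OPE
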